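import Cfsg.Agent.Lib.helper11.ChevNX

/-! Kernel-checked table certificates for `n_p x_s(c) = x_{w_p s}(η c) n_p`. -/

set_option autoImplicit false

namespace Cfsg.Agent.Lib.helper11

open Cfsg Cfsg.Lie

theorem w_E7_0 : wOK chevE7 0 = true := by decide +kernel
theorem nx_E7_0_0 : (List.range' 0 42).all (nxOK chevE7 0) = true := by decide +kernel
theorem nx_E7_0_1 : (List.range' 42 42).all (nxOK chevE7 0) = true := by decide +kernel
theorem nx_E7_0_2 : (List.range' 84 42).all (nxOK chevE7 0) = true := by decide +kernel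
theorem nx_E7_0 (s : ℕ) (hs : s < 126) : nxOK chevE7 0 s = true := by
  by_cases h0 : s < 42
  · exact all_range' _ 0 42 nx_E7_0_0 s (by omega) (by omega)
  by_cases h1 : s < 84
  · exact all_range' _ 42 42 nx_E7_0_1 s (by omega) (by omega)
  exact all_range' _ 84 42 nx_E7_0_2 s (by omega) (by omega)

theorem w_E7_1 : wOK chevE7 1 = true := by decide +kernel
theorem nx_E7_1_0 : (List.range' 0 42).all (nxOK chevE7 1) = true := by decide +kernel
theorem nx_E7_1_1 : (List.range' 42 42).all (nxOK chevE7 1) = true := by decide +kernel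
theorem nx_E7_1_2 : (List.range' 84 42).all (nxOK chevE7 1) = true := by decide +kernel
theorem nx_E7_1 (s : ℕ) (hs : s < 126) : nxOK chevE7 1 s = true := by
  by_cases h0 : s < 42
  · exact all_range' _ 0 42 nx_E7_1_0 s (by omega) (by omega)
  by_cases h1 : s < 84
  · exact all_range' _ 42 42 nx_E7_1_1 s (by omega) (by omega)
  exact all_range' _ 84 42 nx_E7_1_2 s (by omega) (by omega)

theorem w_E7_2 : wOK chevE7 2 = true := by decide +kernel
theorem nx_E7_2_0 : (List.range' 0 42).all (nxOK chevE7 2) = true := by decide +kernel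
theorem nx_E7_2_1 : (List.range' 42 42).all (nxOK chevE7 2) = true := by decide +kernel
theorem nx_E7_2_2 : (List.range' 84 42).all (nxOK chevE7 2) = true := by decide +kernel
theorem nx_E7_2 (s : ℕ) (hs : s < 126) : nxOK chevE7 2 s = true := by
  by_cases h0 : s < 42
  · exact all_range' _ 0 42 nx_E7_2_0 s (by omega) (by omega)
  by_cases h1 : s < 84
  · exact all_range' _ 42 42 nx_E7_2_1 s (by omega) (by omega)
  exact all_range' _ 84 42 nx_E7_2_2 s (by omega) (by omega)

theorem w_E7_3 : wOK chevE7 3 = true := by decide +kernel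
theorem nx_E7_3_0 : (List.range' 0 42).all (nxOK chevE7 3) = true := by decide +kernel
theorem nx_E7_3_1 : (List.range' 42 42).all (nxOK chevE7 3) = true := by decide +kernel
theorem nx_E7_3_2 : (List.range' 84 42).all (nxOK chevE7 3) = true := by decide +kernel
theorem nx_E7_3 (s : ℕ) (hs : s < 126) : nxOK chevE7 3 s = true := by
  by_cases h0 : s < 42
  · exact all_range' _ 0 42 nx_E7_3_0 s (by omega) (by omega)
  by_cases h1 : s < 84
  · exact all_range' _ 42 42 nx_E7_3_1 s (by omega) (by omega)
  exact all_range' _ 84 42 nx_E7_3_2 s (by omega) (by omega)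

theorem w_E7_4 : wOK chevE7 4 = true := by decide +kernel
theorem nx_E7_4_0 : (List.range' 0 42).all (nxOK chevE7 4) = true := by decide +kernel
theorem nx_E7_4_1 : (List.range' 42 42).all (nxOK chevE7 4) = true := by decide +kernel
theorem nx_E7_4_2 : (List.range' 84 42).all (nxOK chevE7 4) = true := by decide +kernel
theorem nx_E7_4 (s : ℕ) (hs : s < 126) : nxOK chevE7 4 s = true := by
  by_cases h0 : s < 42
  · exact all_range' _ 0 42 nx_E7_4_0 s (by omega) (by omega)
  by_cases h1 : s < 84
  · exact all_range' _ 42 42 nx_E7_4_1 s (by omega) (by omega)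
  exact all_range' _ 84 42 nx_E7_4_2 s (by omega) (by omega)

theorem w_E7_5 : wOK chevE7 5 = true := by decide +kernel
theorem nx_E7_5_0 : (List.range' 0 42).all (nxOK chevE7 5) = true := by decide +kernel
theorem nx_E7_5_1 : (List.range' 42 42).all (nxOK chevE7 5) = true := by decide +kernel
theorem nx_E7_5_2 : (List.range' 84 42).all (nxOK chevE7 5) = true := by decide +kernel
theorem nx_E7_5 (s : ℕ) (hs : s < 126) : nxOK chevE7 5 s = true := by
  by_cases h0 : s < 42
  · exact all_range' _ 0 42 nx_E7_5_0 s (by omega) (by omega)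
  by_cases h1 : s < 84
  · exact all_range' _ 42 42 nx_E7_5_1 s (by omega) (by omega)
  exact all_range' _ 84 42 nx_E7_5_2 s (by omega) (by omega)

theorem w_E7_6 : wOK chevE7 6 = true := by decide +kernel
theorem nx_E7_6_0 : (List.range' 0 42).all (nxOK chevE7 6) = true := by decide +kernel
theorem nx_E7_6_1 : (List.range' 42 42).all (nxOK chevE7 6) = true := by decide +kernel
theorem nx_E7_6_2 : (List.range' 84 42).all (nxOK chevE7 6) = true := by decide +kernel
theorem nx_E7_6 (s : ℕ) (hs : s < 126) : nxOK chevE7 6 s = true := by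
  by_cases h0 : s < 42
  · exact all_range' _ 0 42 nx_E7_6_0 s (by omega) (by omega)
  by_cases h1 : s < 84
  · exact all_range' _ 42 42 nx_E7_6_1 s (by omega) (by omega)
  exact all_range' _ 84 42 nx_E7_6_2 s (by omega) (by omega)


end Cfsg.Agent.Lib.helper11
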