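import Cfsg.Agent.Lib.helper11.ChevNX

/-! Kernel-checked table certificates for `n_p x_s(c) = x_{w_p s}(η c) n_p`. -/

set_option autoImplicit false

namespace Cfsg.Agent.Lib.helper11

open Cfsg Cfsg.Lie

theorem w_G2_0 : wOK chevG2 0 = true := by decide +kernel
theorem nx_G2_0_0 : (List.range' 0 12).all (nxOK chevG2 0) = true := by decide +kernel
theorem nx_G2_0 (s : ℕ) (hs : s < 12) : nxOK chevG2 0 s = true := by
  exact all_range' _ 0 12 nx_G2_0_0 s (by omega) (by omega)

theorem w_G2_1 : wOK chevG2 1 = true := by decide +kernel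
theorem nx_G2_1_0 : (List.range' 0 12).all (nxOK chevG2 1) = true := by decide +kernel
theorem nx_G2_1 (s : ℕ) (hs : s < 12) : nxOK chevG2 1 s = true := by
  exact all_range' _ 0 12 nx_G2_1_0 s (by omega) (by omega)

theorem w_B2_0 : wOK chevB2 0 = true := by decide +kernel
theorem nx_B2_0_0 : (List.range' 0 8).all (nxOK chevB2 0) = true := by decide +kernel
theorem nx_B2_0 (s : ℕ) (hs : s < 8) : nxOK chevB2 0 s = true := by
  exact all_range' _ 0 8 nx_B2_0_0 s (by omega) (by omega)

theorem w_B2_1 : wOK chevB2 1 = true := by decide +kernel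
theorem nx_B2_1_0 : (List.range' 0 8).all (nxOK chevB2 1) = true := by decide +kernel
theorem nx_B2_1 (s : ℕ) (hs : s < 8) : nxOK chevB2 1 s = true := by
  exact all_range' _ 0 8 nx_B2_1_0 s (by omega) (by omega)

theorem w_D4_0 : wOK chevD4 0 = true := by decide +kernel
theorem nx_D4_0_0 : (List.range' 0 24).all (nxOK chevD4 0) = true := by decide +kernel
theorem nx_D4_0 (s : ℕ) (hs : s < 24) : nxOK chevD4 0 s = true := by
  exact all_range' _ 0 24 nx_D4_0_0 s (by omega) (by omega)

theorem w_D4_1 : wOK chevD4 1 = true := by decide +kernel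
theorem nx_D4_1_0 : (List.range' 0 24).all (nxOK chevD4 1) = true := by decide +kernel
theorem nx_D4_1 (s : ℕ) (hs : s < 24) : nxOK chevD4 1 s = true := by
  exact all_range' _ 0 24 nx_D4_1_0 s (by omega) (by omega)

theorem w_D4_2 : wOK chevD4 2 = true := by decide +kernel
theorem nx_D4_2_0 : (List.range' 0 24).all (nxOK chevD4 2) = true := by decide +kernel
theorem nx_D4_2 (s : ℕ) (hs : s < 24) : nxOK chevD4 2 s = true := by
  exact all_range' _ 0 24 nx_D4_2_0 s (by omega) (by omega)

theorem w_D4_3 : wOK chevD4 3 = true := by decide +kernel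
theorem nx_D4_3_0 : (List.range' 0 24).all (nxOK chevD4 3) = true := by decide +kernel
theorem nx_D4_3 (s : ℕ) (hs : s < 24) : nxOK chevD4 3 s = true := by
  exact all_range' _ 0 24 nx_D4_3_0 s (by omega) (by omega)

theorem w_F4_0 : wOK chevF4 0 = true := by decide +kernel
theorem nx_F4_0_0 : (List.range' 0 48).all (nxOK chevF4 0) = true := by decide +kernel
theorem nx_F4_0 (s : ℕ) (hs : s < 48) : nxOK chevF4 0 s = true := by
  exact all_range' _ 0 48 nx_F4_0_0 s (by omega) (by omega)

theorem w_F4_1 : wOK chevF4 1 = true := by decide +kernel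
theorem nx_F4_1_0 : (List.range' 0 48).all (nxOK chevF4 1) = true := by decide +kernel
theorem nx_F4_1 (s : ℕ) (hs : s < 48) : nxOK chevF4 1 s = true := by
  exact all_range' _ 0 48 nx_F4_1_0 s (by omega) (by omega)

theorem w_F4_2 : wOK chevF4 2 = true := by decide +kernel
theorem nx_F4_2_0 : (List.range' 0 48).all (nxOK chevF4 2) = true := by decide +kernel
theorem nx_F4_2 (s : ℕ) (hs : s < 48) : nxOK chevF4 2 s = true := by
  exact all_range' _ 0 48 nx_F4_2_0 s (by omega) (by omega)

theorem w_F4_3 : wOK chevF4 3 = true := by decide +kernel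
theorem nx_F4_3_0 : (List.range' 0 48).all (nxOK chevF4 3) = true := by decide +kernel
theorem nx_F4_3 (s : ℕ) (hs : s < 48) : nxOK chevF4 3 s = true := by
  exact all_range' _ 0 48 nx_F4_3_0 s (by omega) (by omega)


end Cfsg.Agent.Lib.helper11
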